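import Mathlib
import Cfsg.Agent.S0953
import Cfsg.Agent.S4652
import Cfsg.Agent.Lib.Helper6.PB13
import Cfsg.Agent.Lib.Helper6.BlkNormalDef
import Cfsg.Agent.Lib.Helper6.BrPrin

/-!
# Sylow subgroup of prime order with `C(P) = P`: characters outside the principal block vanish
on `P \ {1}`.
-/

set_option autoImplicit false

namespace Cfsg.Agent.Lib.Helper5.BrauerSmall

open Cfsg Cfsg.Agent.Lib.Helper6
open scoped ComplexConjugate

variable {G : Type*} [Group G] [Fintype G] [DecidableEq G] {p : ℕ} [hp : Fact p.Prime]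
variable {M : Ideal Cfsg.AlgInt}

/-- When `|P| = p` and `C(P) = P`, there is a single block with defect group `P`: every
irreducible character of degree prime to `p` lies in the principal block. -/
theorem mem_principalBlock_of_not_dvd (P : Sylow p G) (hP : Nat.card P = p)
    (hC : Subgroup.centralizer ((P : Subgroup G) : Set G) = (P : Subgroup G))
    (hM : Cfsg.IsPModular p M) (ψ : Cfsg.IrrCharacter G)
    (h0 : ¬ p ∣ Cfsg.charDegree (ψ : G → ℂ)) : ψ ∈ Cfsg.principalBlock M G := by
  classical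
  have h1 : Cfsg.IsDefectGroup p M (Cfsg.blockOf M (ψ : G → ℂ)) (P : Subgroup G) :=
    PB.isDefectGroup_blockOf P hP hM ψ h0
  have h2 : Cfsg.IsDefectGroup p M (Cfsg.principalBlock M G) (P : Subgroup G) :=
    (Cfsg.Agent.S4652.result p M hM _).mpr ⟨P, rfl⟩
  have hcount := Cfsg.Agent.S0953.result p M hM P
  have hsub : Subsingleton {C : ConjClasses (Subgroup.normalizer ((P : Subgroup G) : Set G)) //
      ∀ n : Subgroup.normalizer ((P : Subgroup G) : Set G), ConjClasses.mk n = C →
        ¬ p ∣ orderOf n ∧ (n : G) ∈ Subgroup.centralizer ((P : Subgroup G) : Set G)} := by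
    have key : ∀ C : ConjClasses (Subgroup.normalizer ((P : Subgroup G) : Set G)),
        (∀ n : Subgroup.normalizer ((P : Subgroup G) : Set G), ConjClasses.mk n = C →
          ¬ p ∣ orderOf n ∧ (n : G) ∈ Subgroup.centralizer ((P : Subgroup G) : Set G)) →
        C = ConjClasses.mk 1 := by
      intro C hCn
      obtain ⟨n, rfl⟩ := ConjClasses.mk_surjective C
      obtain ⟨hn1, hn2⟩ := hCn n rfl
      rw [hC] at hn2
      have hn1' : ¬ p ∣ orderOf (n : G) := by rwa [Subgroup.orderOf_coe]
      have : (n : G) = 1 := by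
        by_contra hne
        exact hn1' (by rw [PB.orderOf_eq_of_mem P hP hn2 hne])
      have hn : n = 1 := Subtype.ext this
      rw [hn]
    constructor
    rintro ⟨C1, hC1⟩ ⟨C2, hC2⟩
    apply Subtype.ext
    exact (key C1 hC1).trans (key C2 hC2).symm
  have hle : Nat.card {B : Set (Cfsg.IrrCharacter G) //
      Cfsg.IsPBlock M B ∧ Cfsg.IsDefectGroup p M B (P : Subgroup G)} ≤ 1 := by
    rw [hcount]
    exact Finite.card_le_one_iff_subsingleton.mpr hsub
  have : Finite (Cfsg.IrrCharacter G) := inferInstance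
  have hsub2 := Finite.card_le_one_iff_subsingleton.mp hle
  have heq : (⟨Cfsg.blockOf M (ψ : G → ℂ), ⟨ψ, rfl⟩, h1⟩ : {B : Set (Cfsg.IrrCharacter G) //
      Cfsg.IsPBlock M B ∧ Cfsg.IsDefectGroup p M B (P : Subgroup G)}) =
      ⟨Cfsg.principalBlock M G, isPBlock_principalBlock, h2⟩ := Subsingleton.elim _ _
  have heq' : Cfsg.blockOf M (ψ : G → ℂ) = Cfsg.principalBlock M G := congrArg Subtype.val heq
  rw [← heq']
  exact sameBlock_refl hM _

/-- When `|P| = p` and `C(P) = P`, irreducible characters outside the principal block vanish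
on the nonidentity elements of `P`. -/
theorem apply_eq_zero_of_not_mem (P : Sylow p G) (hP : Nat.card P = p)
    (hC : Subgroup.centralizer ((P : Subgroup G) : Set G) = (P : Subgroup G))
    (hM : Cfsg.IsPModular p M) (ψ : Cfsg.IrrCharacter G)
    (hψ : ψ ∉ Cfsg.principalBlock M G) {y : G} (hy : y ∈ (P : Subgroup G)) (hy1 : y ≠ 1) :
    (ψ : G → ℂ) y = 0 := by
  have hdvd : p ∣ Cfsg.charDegree (ψ : G → ℂ) := by
    by_contra h0
    exact hψ (mem_principalBlock_of_not_dvd P hP hC hM ψ h0)
  refine IsIrrCharacter.eq_zero_of_defect_zero ψ.2 p 1 hp.out ?_ ?_ ?_ y ?_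
  · rw [pow_one]; exact PB.dvd_card P hP
  · exact PB.not_sq_dvd_card P hP
  · rwa [pow_one]
  · rw [PB.orderOf_eq_of_mem P hP hy hy1]

end Cfsg.Agent.Lib.Helper5.BrauerSmall
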