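import Mathlib
import Cfsg.Agent.S0907
import Cfsg.Agent.S0913
import Cfsg.Agent.Lib.Helper5.BrauerSmall.Vanish
import Cfsg.Agent.Lib.Helper6.Multiplicity
import Cfsg.Agent.Lib.Helper6.Mult
import Cfsg.Agent.Lib.Helper6.BlkLocal
import Cfsg.Agent.Lib.Helper6.BlkSections
import Cfsg.Agent.Lib.Helper6.BlkPrincipal

/-!
# Block splitting summed over `P \ {1}`

For a Sylow subgroup `P` of prime order `p` with `C(P) = P`, and an `l`-block `b` (any prime `l`),
the integer `∑_{ψ ∈ b ∩ B₀(p)} ψ(1) (p m_ψ - ψ(1))` is divisible by the `l`-part of `|G|`,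
where `m_ψ = [ψ|_P, 1_P]`.
-/

set_option autoImplicit false

namespace Cfsg.Agent.Lib.Helper5.BrauerSmall

open Cfsg Cfsg.Agent.Lib.Helper6
open scoped ComplexConjugate
open scoped Classical

section general

variable {G : Type*} [Group G] [Fintype G]

/-- the sum of a character over a subgroup is a multiple of the order of the subgroup -/
theorem exists_mult_one (ψ : Cfsg.IrrCharacter G) (H : Subgroup G) :
    ∃ m : ℕ, ∑ y ∈ Finset.univ.filter (fun y : G => y ∈ H), (ψ : G → ℂ) y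
      = (Nat.card H : ℂ) * (m : ℂ) := by
  classical
  have : Fintype H := Fintype.ofFinite _
  have : Fintype (Cfsg.IrrCharacter H) := Fintype.ofFinite _
  have hres : Cfsg.IsCharacter H (fun c : H => (ψ : G → ℂ) c) :=
    IsCharacter.restrict H (IsIrrCharacter.isCharacter ψ.2)
  obtain ⟨m, _, hm⟩ := IsCharacter.exists_mult hres
  have h1 := hm (oneIrr H)
  refine ⟨m (oneIrr H), ?_⟩
  unfold Cfsg.classInner at h1
  have hc : (Nat.card H : ℂ) ≠ 0 := by
    have : 0 < Nat.card H := Nat.card_pos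
    exact_mod_cast this.ne'
  have h2 : ∑ g : H, (ψ : G → ℂ) g = (Nat.card H : ℂ) * (m (oneIrr H) : ℂ) := by
    rw [← h1, ← mul_assoc, mul_inv_cancel₀ hc, one_mul]
    apply Finset.sum_congr rfl
    intro g _
    show (ψ : G → ℂ) g = (ψ : G → ℂ) g * conj (1 : ℂ)
    simp
  rw [← h2]
  rw [Finset.sum_subtype (Finset.univ.filter (fun y : G => y ∈ H)) (p := fun y => y ∈ H)
    (fun x => by simp) (fun y => (ψ : G → ℂ) y)]

/-- the multiplicity of the trivial character in the restriction of `ψ` to `H` -/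
noncomputable def mOne (H : Subgroup G) (ψ : Cfsg.IrrCharacter G) : ℕ :=
  Classical.choose (exists_mult_one ψ H)

theorem mOne_spec (H : Subgroup G) (ψ : Cfsg.IrrCharacter G) :
    ∑ y ∈ Finset.univ.filter (fun y : G => y ∈ H), (ψ : G → ℂ) y
      = (Nat.card H : ℂ) * (mOne H ψ : ℂ) :=
  Classical.choose_spec (exists_mult_one ψ H)

/-- the integer `|H| m_ψ - ψ(1)`, the sum of `ψ` over `H \ {1}` -/
noncomputable def tauZ (H : Subgroup G) (ψ : Cfsg.IrrCharacter G) : ℤ :=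
  (Nat.card H : ℤ) * (mOne H ψ : ℤ) - (Cfsg.charDegree (ψ : G → ℂ) : ℤ)

theorem sum_sharp_eq (H : Subgroup G) (ψ : Cfsg.IrrCharacter G) :
    ∑ y ∈ Finset.univ.filter (fun y : G => y ∈ H ∧ y ≠ 1), (ψ : G → ℂ) y = (tauZ H ψ : ℂ) := by
  classical
  have h1 := mOne_spec H ψ
  have hsplit : Finset.univ.filter (fun y : G => y ∈ H) =
      insert (1 : G) (Finset.univ.filter (fun y : G => y ∈ H ∧ y ≠ 1)) := by
    ext y
    simp only [Finset.mem_filter, Finset.mem_univ, true_and, Finset.mem_insert]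
    constructor
    · intro hy
      by_cases h : y = 1
      · left; exact h
      · right; exact ⟨hy, h⟩
    · rintro (rfl | ⟨hy, _⟩)
      · exact H.one_mem
      · exact hy
  rw [hsplit, Finset.sum_insert (by simp)] at h1
  have hd : (ψ : G → ℂ) 1 = (Cfsg.charDegree (ψ : G → ℂ) : ℂ) :=
    IsCharacter.apply_one_eq_charDegree (IsIrrCharacter.isCharacter ψ.2)
  unfold tauZ
  push_cast
  rw [← h1, hd]
  ring

theorem card_sharp (H : Subgroup G) :
    (Finset.univ.filter (fun y : G => y ∈ H ∧ y ≠ 1)).card + 1 = Nat.card H := by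
  classical
  have hsplit : Finset.univ.filter (fun y : G => y ∈ H) =
      insert (1 : G) (Finset.univ.filter (fun y : G => y ∈ H ∧ y ≠ 1)) := by
    ext y
    simp only [Finset.mem_filter, Finset.mem_univ, true_and, Finset.mem_insert]
    constructor
    · intro hy
      by_cases h : y = 1
      · left; exact h
      · right; exact ⟨hy, h⟩
    · rintro (rfl | ⟨hy, _⟩)
      · exact H.one_mem
      · exact hy
  have h2 : (Finset.univ.filter (fun y : G => y ∈ H)).card = Nat.card H := by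
    rw [Nat.card_eq_fintype_card, Fintype.card_subtype]
  rw [← h2, hsplit, Finset.card_insert_of_notMem (by simp)]

/-- a character constant equal to the integer `ε` on `H \ {1}` -/
theorem tauZ_of_const (H : Subgroup G) (ψ : Cfsg.IrrCharacter G) (ε : ℤ)
    (h : ∀ y ∈ H, y ≠ 1 → (ψ : G → ℂ) y = (ε : ℂ)) :
    tauZ H ψ = ((Nat.card H : ℤ) - 1) * ε := by
  have h1 := sum_sharp_eq H ψ
  have h2 : ∑ y ∈ Finset.univ.filter (fun y : G => y ∈ H ∧ y ≠ 1), (ψ : G → ℂ) y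
      = ((Finset.univ.filter (fun y : G => y ∈ H ∧ y ≠ 1)).card : ℂ) * (ε : ℂ) := by
    rw [Finset.sum_congr rfl (g := fun _ => (ε : ℂ))]
    · rw [Finset.sum_const, nsmul_eq_mul]
    · intro y hy
      rw [Finset.mem_filter] at hy
      exact h y hy.2.1 hy.2.2
  have h3 := card_sharp H
  have h4 : ((Finset.univ.filter (fun y : G => y ∈ H ∧ y ≠ 1)).card : ℤ) = (Nat.card H : ℤ) - 1 := by
    omega
  rw [h2] at h1
  have h5 : ((tauZ H ψ : ℤ) : ℂ) = ((((Nat.card H : ℤ) - 1) * ε : ℤ) : ℂ) := by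
    rw [← h1, ← h4]
    push_cast
    ring
  exact_mod_cast h5

end general

section localint

variable {l : ℕ} {M : Ideal Cfsg.AlgInt}

/-- a rational integer `N` with `N / l^k` a local integer is divisible by `l^k` -/
theorem pow_dvd_of_memLocalRing_pow (hM : Cfsg.IsPModular l M) (k : ℕ) :
    ∀ N : ℤ, Cfsg.MemLocalRing M ((N : ℂ) / ((l : ℂ) ^ k)) → ((l : ℤ) ^ k) ∣ N := by
  have hl : l.Prime := hM.1
  have hl0 : (l : ℂ) ≠ 0 := by exact_mod_cast hl.ne_zero
  induction k with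
  | zero => intro N _; simp
  | succ k ih =>
    intro N h
    have h1 : (N : ℂ) = (l : ℂ) * ((l : ℂ) ^ k * ((N : ℂ) / ((l : ℂ) ^ (k + 1)))) := by
      field_simp
      ring
    have h2 : Cfsg.MemLocalIdeal M (N : ℂ) := by
      rw [h1]
      apply MemLocalIdeal.mul_right hM (memLocalIdeal_prime hM)
      exact MemLocalRing.mul hM (MemLocalRing.pow hM (memLocalRing_natCast hM l) k) h
    rw [memLocalIdeal_intCast_iff hM] at h2
    obtain ⟨N', rfl⟩ := h2
    have h3 : (((l : ℤ) * N' : ℤ) : ℂ) / ((l : ℂ) ^ (k + 1)) = (N' : ℂ) / ((l : ℂ) ^ k) := by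
      push_cast
      field_simp
      ring
    rw [h3] at h
    obtain ⟨c, hc⟩ := ih N' h
    exact ⟨c, by rw [hc]; ring⟩

/-- a rational integer `N` with `N / (l^k u)` a local integer is divisible by `l^k` -/
theorem pow_dvd_of_memLocalRing (hM : Cfsg.IsPModular l M) (N : ℤ) (k u : ℕ) (hu : u ≠ 0)
    (h : Cfsg.MemLocalRing M ((N : ℂ) / ((l ^ k * u : ℕ) : ℂ))) : ((l : ℤ) ^ k) ∣ N := by
  have hl : l.Prime := hM.1
  have hl0 : (l : ℂ) ≠ 0 := by exact_mod_cast hl.ne_zero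
  have hu0 : (u : ℂ) ≠ 0 := by exact_mod_cast hu
  apply pow_dvd_of_memLocalRing_pow hM k N
  have h1 : (N : ℂ) / ((l : ℂ) ^ k) = (u : ℂ) * ((N : ℂ) / ((l ^ k * u : ℕ) : ℂ)) := by
    push_cast
    field_simp
  rw [h1]
  exact MemLocalRing.mul hM (memLocalRing_natCast hM u) h

end localint

section main

variable {G : Type*} [Group G] [Fintype G]

/-- swapping the two sums: the sum over `P \ {1}` of the block sums is the integer
`∑_{ψ ∈ B} ψ(1) τ(ψ)` -/
theorem sum_sharp_block (H : Subgroup G) [Fintype (Cfsg.IrrCharacter G)]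
    (B : Set (Cfsg.IrrCharacter G)) [DecidablePred (· ∈ B)] :
    ∑ y ∈ Finset.univ.filter (fun y : G => y ∈ H ∧ y ≠ 1),
      ∑ᶠ ψ ∈ B, (ψ : G → ℂ) 1 * conj ((ψ : G → ℂ) y)
    = ((∑ ψ ∈ Finset.univ.filter (· ∈ B),
        (Cfsg.charDegree (ψ : G → ℂ) : ℤ) * tauZ H ψ : ℤ) : ℂ) := by
  classical
  have h1 : ∀ y : G, ∑ᶠ ψ ∈ B, (ψ : G → ℂ) 1 * conj ((ψ : G → ℂ) y)
      = ∑ ψ ∈ Finset.univ.filter (· ∈ B), (ψ : G → ℂ) 1 * conj ((ψ : G → ℂ) y) := by
    intro y
    rw [finsum_mem_eq_sum_filter_lib]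
  simp_rw [h1]
  rw [Finset.sum_comm]
  push_cast
  apply Finset.sum_congr rfl
  intro ψ _
  rw [← Finset.mul_sum, ← map_sum, sum_sharp_eq H ψ]
  have hd : (ψ : G → ℂ) 1 = (Cfsg.charDegree (ψ : G → ℂ) : ℂ) :=
    IsCharacter.apply_one_eq_charDegree (IsIrrCharacter.isCharacter ψ.2)
  rw [hd]
  simp

variable {p : ℕ} [hp : Fact p.Prime] {Mp : Ideal Cfsg.AlgInt}

/-- characters outside the principal `p`-block have `τ = 0` -/
theorem tauZ_eq_zero_of_not_mem (P : Sylow p G) (hP : Nat.card P = p)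
    (hC : Subgroup.centralizer ((P : Subgroup G) : Set G) = (P : Subgroup G))
    (hMp : Cfsg.IsPModular p Mp) (ψ : Cfsg.IrrCharacter G)
    (hψ : ψ ∉ Cfsg.principalBlock Mp G) : tauZ (P : Subgroup G) ψ = 0 := by
  have h1 := sum_sharp_eq (P : Subgroup G) ψ
  have h2 : ∑ y ∈ Finset.univ.filter (fun y : G => y ∈ (P : Subgroup G) ∧ y ≠ 1),
      (ψ : G → ℂ) y = 0 := by
    apply Finset.sum_eq_zero
    intro y hy
    rw [Finset.mem_filter] at hy
    exact apply_eq_zero_of_not_mem P hP hC hMp ψ hψ hy.2.1 hy.2.2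
  rw [h2] at h1
  exact_mod_cast h1.symm

/-- weak block orthogonality summed over `P \ {1}` -/
theorem principal_sum_eq_zero (P : Sylow p G) (hP : Nat.card P = p)
    (hMp : Cfsg.IsPModular p Mp) [Fintype (Cfsg.IrrCharacter G)] :
    ∑ ψ ∈ Finset.univ.filter (· ∈ Cfsg.principalBlock Mp G),
        (Cfsg.charDegree (ψ : G → ℂ) : ℤ) * tauZ (P : Subgroup G) ψ = 0 := by
  classical
  have h1 := sum_sharp_block (P : Subgroup G) (Cfsg.principalBlock Mp G)
  have h2 : ∑ y ∈ Finset.univ.filter (fun y : G => y ∈ (P : Subgroup G) ∧ y ≠ 1),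
      ∑ᶠ ψ ∈ Cfsg.principalBlock Mp G, (ψ : G → ℂ) 1 * conj ((ψ : G → ℂ) y) = 0 := by
    apply Finset.sum_eq_zero
    intro y hy
    rw [Finset.mem_filter] at hy
    apply Cfsg.Agent.S0907.result p Mp hMp (Cfsg.principalBlock Mp G) isPBlock_principalBlock 1 y
    · rw [orderOf_one]; exact hp.out.not_dvd_one
    · rw [PB.orderOf_eq_of_mem P hP hy.2.1 hy.2.2]
  rw [h2] at h1
  exact_mod_cast h1.symm

/-- **Block splitting**: for an `l`-block `b`, the `l`-part of `|G|` divides the integer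
`∑_{ψ ∈ b ∩ B₀(p)} ψ(1) τ(ψ)`. -/
theorem block_sum_dvd (P : Sylow p G) (hP : Nat.card P = p)
    (hC : Subgroup.centralizer ((P : Subgroup G) : Set G) = (P : Subgroup G))
    (hMp : Cfsg.IsPModular p Mp) {l : ℕ} [Fact l.Prime] {Ml : Ideal Cfsg.AlgInt}
    (hMl : Cfsg.IsPModular l Ml) (b : Set (Cfsg.IrrCharacter G)) (hb : Cfsg.IsPBlock Ml b)
    (k u : ℕ) (hu : u ≠ 0) (hcard : Nat.card G = l ^ k * u) [Fintype (Cfsg.IrrCharacter G)] :
    ((l : ℤ) ^ k) ∣ ∑ ψ ∈ Finset.univ.filter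
        (fun ψ : Cfsg.IrrCharacter G => ψ ∈ b ∧ ψ ∈ Cfsg.principalBlock Mp G),
        (Cfsg.charDegree (ψ : G → ℂ) : ℤ) * tauZ (P : Subgroup G) ψ := by
  classical
  have hloc : Cfsg.MemLocalRing Ml
      (∑ y ∈ Finset.univ.filter (fun y : G => y ∈ (P : Subgroup G) ∧ y ≠ 1),
        Cfsg.blockCoeff b y) :=
    MemLocalRing.sum hMl _ _ (fun y _ => Cfsg.Agent.S0913.result l Ml hMl b hb y)
  have h1 : ∑ y ∈ Finset.univ.filter (fun y : G => y ∈ (P : Subgroup G) ∧ y ≠ 1),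
        Cfsg.blockCoeff b y
      = ((∑ ψ ∈ Finset.univ.filter (· ∈ b),
        (Cfsg.charDegree (ψ : G → ℂ) : ℤ) * tauZ (P : Subgroup G) ψ : ℤ) : ℂ)
        / ((l ^ k * u : ℕ) : ℂ) := by
    unfold Cfsg.blockCoeff
    rw [← Finset.mul_sum, sum_sharp_block (P : Subgroup G) b, hcard, div_eq_inv_mul]
  have h2 : ∑ ψ ∈ Finset.univ.filter (· ∈ b),
        (Cfsg.charDegree (ψ : G → ℂ) : ℤ) * tauZ (P : Subgroup G) ψ
      = ∑ ψ ∈ Finset.univ.filter
        (fun ψ : Cfsg.IrrCharacter G => ψ ∈ b ∧ ψ ∈ Cfsg.principalBlock Mp G),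
        (Cfsg.charDegree (ψ : G → ℂ) : ℤ) * tauZ (P : Subgroup G) ψ := by
    symm
    apply Finset.sum_subset
    · intro ψ hψ
      rw [Finset.mem_filter] at hψ ⊢
      exact ⟨hψ.1, hψ.2.1⟩
    · intro ψ hψ hψ'
      rw [Finset.mem_filter] at hψ hψ'
      have : ψ ∉ Cfsg.principalBlock Mp G := fun h => hψ' ⟨Finset.mem_univ _, hψ.2, h⟩
      rw [tauZ_eq_zero_of_not_mem P hP hC hMp ψ this, mul_zero]
  rw [h1] at hloc
  rw [← h2]
  exact pow_dvd_of_memLocalRing hMl _ k u hu hloc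

end main

end Cfsg.Agent.Lib.Helper5.BrauerSmall
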