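import Mathlib
import Cfsg.Agent.S4441
import Cfsg.Agent.Lib.Helper5.BrauerSmall.Sum
import Cfsg.Agent.Lib.Helper6.BLSimple
import Cfsg.Agent.Lib.Helper6.BrPrin

/-!
# The principal `p`-block when `|P| = p` and `|N(P) : C(P)| = 2`
-/

set_option autoImplicit false

namespace Cfsg.Agent.Lib.Helper5.BrauerSmall

open Cfsg Cfsg.Agent.Lib.Helper6
open scoped ComplexConjugate
open scoped Classical

variable {G : Type*} [Group G] [Fintype G]
variable {p : ℕ} [hp : Fact p.Prime] {M : Ideal Cfsg.AlgInt}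

/-- The shape of the principal `p`-block for inertial index `2`: the trivial character, one more
non-exceptional character `χ`, and `(p-1)/2` exceptional characters of a common degree `d`. -/
theorem data_e2 [Fintype (Cfsg.IrrCharacter G)] (hp5 : 5 ≤ p) (hM : Cfsg.IsPModular p M)
    (P : Sylow p G) (hP : Nat.card P = p)
    (he : (Subgroup.centralizer ((P : Subgroup G) : Set G)).relIndex
      (Subgroup.normalizer ((P : Subgroup G) : Set G)) = 2) :
    ∃ (χ : Cfsg.IrrCharacter G) (Y : Finset (Cfsg.IrrCharacter G)) (e1 e2 : ℤ) (d : ℕ),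
      χ ≠ oneIrr G ∧ oneIrr G ∉ Y ∧ χ ∉ Y ∧ Y.card = (p - 1) / 2 ∧
      (∀ ψ : Cfsg.IrrCharacter G, ψ ∈ Cfsg.principalBlock M G ↔ ψ = oneIrr G ∨ ψ = χ ∨ ψ ∈ Y) ∧
      (e1 = 1 ∨ e1 = -1) ∧ (e2 = 1 ∨ e2 = -1) ∧
      (Cfsg.charDegree (χ : G → ℂ) : ℤ) ≡ e1 [ZMOD p] ∧
      (∀ θ ∈ Y, Cfsg.charDegree (θ : G → ℂ) = d) ∧
      (d : ℤ) ≡ e2 * 2 [ZMOD p] ∧
      e2 * (d : ℤ) = 1 + e1 * (Cfsg.charDegree (χ : G → ℂ) : ℤ) ∧
      tauZ (P : Subgroup G) (oneIrr G) = (p : ℤ) - 1 ∧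
      tauZ (P : Subgroup G) χ = ((p : ℤ) - 1) * e1 := by
  classical
  have hpp : p.Prime := hp.out
  obtain ⟨X, Y, hXY, hdisj, hcX, hcY, εX, ε, hX, hε, hYdeg, hYagree, hYrel⟩ :=
    Cfsg.Agent.S4441.result p M hM (by omega) P hP 2 he
  -- the trivial character lies in X
  have h1B : oneIrr G ∈ Cfsg.principalBlock M G := oneIrr_mem_principalBlock hM
  have h1X : oneIrr G ∈ X := by
    rw [hXY] at h1B
    rcases h1B with h | h
    · exact h
    · exfalso
      have h2 := hYdeg _ h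
      rw [charDegree_oneIrr] at h2
      have h3 := h2.dvd
      rcases hε with rfl | rfl
      · have h4 : (p : ℤ) ∣ 1 := by
          have : (1 : ℤ) * ((2 : ℕ) : ℤ) - ((1 : ℕ) : ℤ) = 1 := by norm_num
          rw [this] at h3; exact h3
        have h5 : (p : ℤ) ≤ 1 := Int.le_of_dvd (by norm_num) h4
        omega
      · have h4 : (p : ℤ) ∣ 3 := by
          have : (-1 : ℤ) * ((2 : ℕ) : ℤ) - ((1 : ℕ) : ℤ) = -3 := by norm_num
          rw [this] at h3; exact (dvd_neg.mp h3)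
        have h5 : (p : ℤ) ≤ 3 := Int.le_of_dvd (by norm_num) h4
        omega
  -- X = {1, χ}
  have hX2 : X.ncard = 2 := by rw [← Nat.card_coe_set_eq]; exact hcX
  obtain ⟨χ, hχ1, hXeq⟩ : ∃ χ : Cfsg.IrrCharacter G, χ ≠ oneIrr G ∧ X = {oneIrr G, χ} := by
    obtain ⟨a, b, hab, hXab⟩ := Set.ncard_eq_two.1 hX2
    rw [hXab] at h1X
    rcases h1X with h | h
    · refine ⟨b, ?_, ?_⟩
      · rw [h]; exact hab.symm
      · rw [hXab, h]
    · have h' : oneIrr G = b := h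
      refine ⟨a, ?_, ?_⟩
      · rw [h']; exact hab
      · rw [hXab, h', Set.pair_comm]
  have hχX : χ ∈ X := by rw [hXeq]; simp
  -- a nonidentity element of P
  obtain ⟨x, hxP, hxo⟩ := PB.exists_gen P hP
  have hxmem : x ∈ (P : Subgroup G) := by rw [hxP]; exact Subgroup.mem_zpowers x
  have hx1 : x ≠ 1 := by
    rintro rfl
    rw [orderOf_one] at hxo
    omega
  have h1C : (1 : G) ∈ Subgroup.centralizer ((P : Subgroup G) : Set G) := Subgroup.one_mem _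
  have h1reg : ¬ p ∣ orderOf (1 : G) := by rw [orderOf_one]; exact hpp.not_dvd_one
  -- values on P \ {1}
  have hval : ∀ ψ ∈ X, ∀ y ∈ (P : Subgroup G), y ≠ 1 → (ψ : G → ℂ) y = (εX ψ : ℂ) := by
    intro ψ hψ y hy hy1
    have := (hX ψ hψ).2.2 y hy hy1 1 h1C h1reg
    rwa [mul_one] at this
  have hε1 : εX (oneIrr G) = 1 := by
    have := hval _ h1X x hxmem hx1
    have h2 : ((oneIrr G : Cfsg.IrrCharacter G) : G → ℂ) x = 1 := rfl
    rw [h2] at this
    exact_mod_cast this.symm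
  -- Y as a finset
  obtain ⟨YF, hYF⟩ : ∃ YF : Finset (Cfsg.IrrCharacter G), YF = Finset.univ.filter (· ∈ Y) :=
    ⟨_, rfl⟩
  have hmemYF : ∀ ψ, ψ ∈ YF ↔ ψ ∈ Y := by intro ψ; rw [hYF]; simp
  have hYFcard : YF.card = (p - 1) / 2 := by
    rw [← hcY, Nat.card_eq_fintype_card, Fintype.card_subtype, hYF]
  have hYne : YF.Nonempty := by
    rw [← Finset.card_pos, hYFcard]
    omega
  obtain ⟨θ₀, hθ₀⟩ := hYne
  have hθ₀Y : θ₀ ∈ Y := (hmemYF θ₀).1 hθ₀
  have hdeg : ∀ ψ : Cfsg.IrrCharacter G, (ψ : G → ℂ) 1 = (Cfsg.charDegree (ψ : G → ℂ) : ℂ) :=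
    fun ψ => IsCharacter.apply_one_eq_charDegree (IsIrrCharacter.isCharacter ψ.2)
  have hdY : ∀ θ ∈ YF, Cfsg.charDegree (θ : G → ℂ) = Cfsg.charDegree (θ₀ : G → ℂ) := by
    intro θ hθ
    have h := hYagree θ ((hmemYF θ).1 hθ) θ₀ hθ₀Y 1 h1reg
    rw [hdeg, hdeg] at h
    exact_mod_cast h
  -- the degree relation
  have hrel : ε * (Cfsg.charDegree (θ₀ : G → ℂ) : ℤ)
      = 1 + εX χ * (Cfsg.charDegree (χ : G → ℂ) : ℤ) := by
    have h := hYrel θ₀ hθ₀Y 1 h1reg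
    rw [hXeq, finsum_mem_pair hχ1.symm, hdeg, hdeg, hdeg, charDegree_oneIrr, hε1] at h
    have h' : ((ε * (Cfsg.charDegree (θ₀ : G → ℂ) : ℤ) : ℤ) : ℂ)
        = ((1 + εX χ * (Cfsg.charDegree (χ : G → ℂ) : ℤ) : ℤ) : ℂ) := by
      push_cast
      rw [h]
      push_cast
      ring
    exact_mod_cast h'
  refine ⟨χ, YF, εX χ, ε, Cfsg.charDegree (θ₀ : G → ℂ), hχ1, ?_, ?_, hYFcard, ?_,
    (hX χ hχX).1, hε, (hX χ hχX).2.1, hdY, ?_, hrel, ?_, ?_⟩
  · intro h
    exact Set.disjoint_left.mp hdisj h1X ((hmemYF _).1 h)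
  · intro h
    exact Set.disjoint_left.mp hdisj hχX ((hmemYF _).1 h)
  · intro ψ
    rw [hXY, hXeq, hmemYF]
    simp only [Set.mem_union, Set.mem_insert_iff, Set.mem_singleton_iff]
    tauto
  · have := hYdeg θ₀ hθ₀Y
    simpa using this
  · have := tauZ_of_const (P : Subgroup G) (oneIrr G) 1 (by
      intro y hy hy1
      have := hval _ h1X y hy hy1
      rw [hε1] at this
      exact this)
    rw [this, show Nat.card (P : Subgroup G) = p from hP]
    ring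
  · have := tauZ_of_const (P : Subgroup G) χ (εX χ) (hval χ hχX)
    rw [this, show Nat.card (P : Subgroup G) = p from hP]

end Cfsg.Agent.Lib.Helper5.BrauerSmall
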