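import Mathlib
import Cfsg.Agent.S0910
import Cfsg.Agent.Lib.Helper5.BrauerSmall.E2
import Cfsg.Agent.Lib.Helper7.CountTools
import Cfsg.Agent.Lib.Helper6.BlkCover3

/-!
# Tools for the Brauer method on simple groups of small order
-/

set_option autoImplicit false

namespace Cfsg.Agent.Lib.Helper5.BrauerSmall

open Cfsg Cfsg.Agent.Lib.Helper6
open scoped ComplexConjugate
open scoped Classical

section sylow

variable {G : Type*} [Group G] [Finite G] [IsSimpleGroup G] {p : ℕ} [hp : Fact p.Prime]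

/-- Sylow data when `|P| = p` and `C(P) = P` in a simple group -/
theorem relIndex_data (P : Sylow p G) (hP : Nat.card P = p)
    (hC : Subgroup.centralizer ((P : Subgroup G) : Set G) = (P : Subgroup G))
    (hG : Nat.card G ≠ p) :
    ∃ k, k ∣ p - 1 ∧ k ≠ 1 ∧
      (Subgroup.centralizer ((P : Subgroup G) : Set G)).relIndex
        (Subgroup.normalizer ((P : Subgroup G) : Set G)) = k ∧
      Nat.card (Sylow p G) * (p * k) = Nat.card G ∧ Nat.card (Sylow p G) ≡ 1 [MOD p] := by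
  obtain ⟨k, hk1, hk2, hN⟩ := Cfsg.Agent.Lib.Helper7.CountTools.exists_card_normalizer_eq P hP hG
  have hCcard : Nat.card (Subgroup.centralizer ((P : Subgroup G) : Set G)) = p := by
    rw [hC]; exact hP
  rw [hCcard] at hN
  refine ⟨k, hk1, hk2, ?_, ?_, card_sylow_modEq_one p G⟩
  · have h1 := Cfsg.Agent.Lib.Lead.SylowCount.card_mul_relIndex
      (PB.C_le_N P)
    rw [hCcard, hN] at h1
    exact Nat.eq_of_mul_eq_mul_left hp.out.pos h1
  · rw [← hN]
    exact Cfsg.Agent.Lib.Lead.SylowCount.card_sylow_mul_card_normalizer p P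

theorem exists_noncomm (hG : ¬ (Nat.card G).Prime) : ∃ a b : G, a * b ≠ b * a := by
  by_contra h
  have h : ∀ a b : G, a * b = b * a := by
    intro a b
    by_contra hab
    exact h ⟨a, b, hab⟩
  letI : CommGroup G := { ‹Group G› with mul_comm := h }
  exact hG IsSimpleGroup.prime_card

end sylow

section arith

/-- divisors of `2^m * 3^n` -/
theorem exists_two_three_of_dvd {a m n : ℕ} (h : a ∣ 2 ^ m * 3 ^ n) :
    ∃ i ≤ m, ∃ j ≤ n, a = 2 ^ i * 3 ^ j := by
  obtain ⟨k1, k2, h1, h2, rfl⟩ := (Nat.dvd_mul).1 h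
  obtain ⟨i, hi, rfl⟩ := (Nat.dvd_prime_pow Nat.prime_two).1 h1
  obtain ⟨j, hj, rfl⟩ := (Nat.dvd_prime_pow Nat.prime_three).1 h2
  exact ⟨i, hi, j, hj, rfl⟩

end arith

section chars

variable {G : Type*} [Group G] [Fintype G]

/-- the sum of `ψ(1) τ(ψ)` over a set of characters of common degree `d` -/
theorem sum_exceptional (H : Subgroup G) (Z : Finset (Cfsg.IrrCharacter G)) (d : ℕ)
    (hd : ∀ θ ∈ Z, Cfsg.charDegree (θ : G → ℂ) = d) :
    ∑ θ ∈ Z, (Cfsg.charDegree (θ : G → ℂ) : ℤ) * tauZ H θ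
      = (d : ℤ) * ((Nat.card H : ℤ) * ∑ θ ∈ Z, (mOne H θ : ℤ) - (Z.card : ℤ) * (d : ℤ)) := by
  have h1 : ∀ θ ∈ Z, (Cfsg.charDegree (θ : G → ℂ) : ℤ) * tauZ H θ
      = (d : ℤ) * (Nat.card H : ℤ) * (mOne H θ : ℤ) - (d : ℤ) * (d : ℤ) := by
    intro θ hθ
    unfold tauZ
    rw [hd θ hθ]
    ring
  rw [Finset.sum_congr rfl h1, Finset.sum_sub_distrib, Finset.sum_const, ← Finset.mul_sum]
  simp only [nsmul_eq_mul]
  ring

theorem sum_mOne_le (H : Subgroup G) {Z Y : Finset (Cfsg.IrrCharacter G)} (h : Z ⊆ Y) :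
    ∑ θ ∈ Z, (mOne H θ : ℤ) ≤ ∑ θ ∈ Y, (mOne H θ : ℤ) :=
  Finset.sum_le_sum_of_subset_of_nonneg h (fun _ _ _ => by positivity)

theorem sum_mOne_nonneg (H : Subgroup G) (Z : Finset (Cfsg.IrrCharacter G)) :
    0 ≤ ∑ θ ∈ Z, (mOne H θ : ℤ) :=
  Finset.sum_nonneg (fun _ _ => by positivity)

variable [IsSimpleGroup G] {l : ℕ} [hl : Fact l.Prime] {Ml : Ideal Cfsg.AlgInt}

/-- a nonprincipal character of `l`-power degree is not in the principal `l`-block -/
theorem oneIrr_not_mem_blockOf (hna : ∃ a b : G, a * b ≠ b * a) (hMl : Cfsg.IsPModular l Ml)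
    (χ : Cfsg.IrrCharacter G) (hχ1 : χ ≠ oneIrr G) (k : ℕ)
    (hdeg : Cfsg.charDegree (χ : G → ℂ) = l ^ k) :
    oneIrr G ∉ Cfsg.blockOf Ml (χ : G → ℂ) := by
  intro h
  have h1 : Cfsg.blockOf Ml (χ : G → ℂ) = Cfsg.principalBlock Ml G := by
    rw [principalBlock_eq]
    exact blockOf_eq_of_mem hMl h
  have h2 : χ ∈ Cfsg.principalBlock Ml G := by
    rw [← h1]; exact sameBlock_refl hMl _
  have h3 := Cfsg.Agent.S0910.result l Ml hMl hna χ h2 k (by
    rw [IsCharacter.apply_one_eq_charDegree (IsIrrCharacter.isCharacter χ.2), hdeg]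
    push_cast; rfl)
  apply hχ1
  apply Subtype.ext
  rw [h3]
  rfl

/-- nonprincipal characters of a nonabelian simple group in the principal block are nonlinear -/
theorem charDegree_ne_one (hna : ∃ a b : G, a * b ≠ b * a) (hMl : Cfsg.IsPModular l Ml)
    (χ : Cfsg.IrrCharacter G) (hχ1 : χ ≠ oneIrr G) (hχ : χ ∈ Cfsg.principalBlock Ml G) :
    Cfsg.charDegree (χ : G → ℂ) ≠ 1 := by
  intro h
  have h3 := Cfsg.Agent.S0910.result l Ml hMl hna χ hχ 0 (by
    rw [IsCharacter.apply_one_eq_charDegree (IsIrrCharacter.isCharacter χ.2), h]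
    simp)
  apply hχ1
  apply Subtype.ext
  rw [h3]
  rfl

end chars

end Cfsg.Agent.Lib.Helper5.BrauerSmall
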