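import Mathlib
import Cfsg.Agent.S0904
import Cfsg.Agent.Lib.Helper5.BrauerSmall.Tools
import Cfsg.Agent.Lib.Helper6.BlkVanish

/-!
# No simple group of order 4032 (Brauer's method)
-/

set_option autoImplicit false

namespace Cfsg.Agent.Lib.Helper5.BrauerSmall

open Cfsg Cfsg.Agent.Lib.Helper6
open scoped ComplexConjugate

/-- the arithmetic condition checked by brute force -/
def Good4032 (i j i' j' s : ℕ) : Prop :=
    (((2 ^ i * 3 ^ j : ℕ) : ℤ) - (if s < 2 then 1 else -1)) % 7 = 0 →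
    (((2 ^ i' * 3 ^ j' : ℕ) : ℤ) - (if s % 2 = 0 then 1 else -1) * 2) % 7 = 0 →
    (if s % 2 = 0 then (1 : ℤ) else -1) * ((2 ^ i' * 3 ^ j' : ℕ) : ℤ)
      = 1 + (if s < 2 then (1 : ℤ) else -1) * ((2 ^ i * 3 ^ j : ℕ) : ℤ) →
    2 ^ i * 3 ^ j ≠ 1 →
    (2 ^ i * 3 ^ j = 8 ∧ 2 ^ i' * 3 ^ j' = 9 ∧ s = 0)

instance decGood4032 (i j i' j' s : ℕ) : Decidable (Good4032 i j i' j' s) := by
  unfold Good4032; infer_instance

set_option maxRecDepth 100000 in
theorem core_4032 : ∀ i < 7, ∀ j < 3, ∀ i' < 7, ∀ j' < 3, ∀ s < 4, Good4032 i j i' j' s := by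
  decide

theorem arith_4032 (a d : ℕ) (e1 e2 : ℤ) (ha : a ∣ 4032) (hd : d ∣ 4032)
    (he1 : e1 = 1 ∨ e1 = -1) (he2 : e2 = 1 ∨ e2 = -1)
    (h1 : (a : ℤ) ≡ e1 [ZMOD (7 : ℕ)]) (h2 : (d : ℤ) ≡ e2 * 2 [ZMOD (7 : ℕ)])
    (hrel : e2 * (d : ℤ) = 1 + e1 * (a : ℤ)) (ha1 : a ≠ 1) :
    a = 8 ∧ d = 9 ∧ e1 = 1 ∧ e2 = 1 := by
  have h7a : ¬ 7 ∣ a := by
    rintro ⟨c, rfl⟩
    unfold Int.ModEq at h1
    push_cast at h1
    rcases he1 with rfl | rfl <;> omega
  have h7d : ¬ 7 ∣ d := by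
    rintro ⟨c, rfl⟩
    unfold Int.ModEq at h2
    push_cast at h2
    rcases he2 with rfl | rfl <;> omega
  have ha' : a ∣ 2 ^ 6 * 3 ^ 2 := by
    have : a ∣ 7 * (2 ^ 6 * 3 ^ 2) := by norm_num; exact ha
    exact (Nat.Coprime.dvd_mul_left
      ((Nat.Prime.coprime_iff_not_dvd (by norm_num)).2 h7a).symm).1 this
  have hd' : d ∣ 2 ^ 6 * 3 ^ 2 := by
    have : d ∣ 7 * (2 ^ 6 * 3 ^ 2) := by norm_num; exact hd
    exact (Nat.Coprime.dvd_mul_left
      ((Nat.Prime.coprime_iff_not_dvd (by norm_num)).2 h7d).symm).1 this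
  obtain ⟨i, hi, j, hj, rfl⟩ := exists_two_three_of_dvd ha'
  obtain ⟨i', hi', j', hj', rfl⟩ := exists_two_three_of_dvd hd'
  unfold Int.ModEq at h1 h2
  push_cast at h1 h2
  rcases he1 with rfl | rfl <;> rcases he2 with rfl | rfl
  · have := core_4032 i (by omega) j (by omega) i' (by omega) j' (by omega) 0 (by norm_num)
      (by norm_num; omega) (by norm_num; omega) (by simpa using hrel) ha1
    exact ⟨this.1, this.2.1, rfl, rfl⟩
  · have := core_4032 i (by omega) j (by omega) i' (by omega) j' (by omega) 1 (by norm_num)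
      (by norm_num; omega) (by norm_num; omega) (by simpa using hrel) ha1
    exact absurd this.2.2 (by norm_num)
  · have := core_4032 i (by omega) j (by omega) i' (by omega) j' (by omega) 2 (by norm_num)
      (by norm_num; omega) (by norm_num; omega) (by simpa using hrel) ha1
    exact absurd this.2.2 (by norm_num)
  · have := core_4032 i (by omega) j (by omega) i' (by omega) j' (by omega) 3 (by norm_num)
      (by norm_num; omega) (by norm_num; omega) (by simpa using hrel) ha1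
    exact absurd this.2.2 (by norm_num)

open scoped Classical in
/-- There is no simple group of order 4032. -/
theorem false_of_card_4032 {G : Type*} [Group G] [Finite G] [IsSimpleGroup G]
    (hG : Nat.card G = 4032) : False := by
  classical
  have : Fintype G := Fintype.ofFinite G
  have : Fintype (Cfsg.IrrCharacter G) := Fintype.ofFinite _
  haveI : Fact (Nat.Prime 7) := ⟨by norm_num⟩
  haveI : Fact (Nat.Prime 2) := ⟨Nat.prime_two⟩
  have hna : ∃ a b : G, a * b ≠ b * a := exists_noncomm (by rw [hG]; norm_num)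
  obtain P : Sylow 7 G := default
  have hP : Nat.card P = 7 :=
    Cfsg.Agent.Lib.Lead.SylowCount.card_sylow_of_card_eq 7 576 (by rw [hG]) (by norm_num) P
  have hC : Subgroup.centralizer ((P : Subgroup G) : Set G) = (P : Subgroup G) :=
    Cfsg.Agent.S0904.result 2 3 7 6 2 Nat.prime_two Nat.prime_three (by norm_num) (by norm_num)
      (by norm_num) (by rw [hG]; norm_num) P
  obtain ⟨k, hk1, hk2, hrel, hcount, hmod⟩ := relIndex_data P hP hC (by rw [hG]; norm_num)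
  have hk : k = 2 := by
    have hk6 : k ≤ 6 := Nat.le_of_dvd (by norm_num) hk1
    rw [hG] at hcount
    unfold Nat.ModEq at hmod
    interval_cases k
    · simp at hk1
    · exact absurd rfl hk2
    · rfl
    · exfalso; omega
    · exfalso; norm_num at hk1
    · exfalso; norm_num at hk1
    · exfalso; omega
  subst hk
  obtain ⟨M7, hM7⟩ := exists_isPModular 7
  obtain ⟨M2, hM2⟩ := exists_isPModular 2
  obtain ⟨χ, Y, e1, e2, d, hχ1, h1Y, hχY, hYcard, hB0, he1, he2, hcong1, hYd, hcong2, hdegrel,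
    htau1, htauχ⟩ := data_e2 (by norm_num) hM7 P hP hrel
  have hχB : χ ∈ Cfsg.principalBlock M7 G := (hB0 χ).2 (Or.inr (Or.inl rfl))
  have hdvdχ : Cfsg.charDegree (χ : G → ℂ) ∣ 4032 := by
    rw [← hG]; exact IsIrrCharacter.charDegree_dvd_card χ.2
  have hYne : Y.Nonempty := by
    rw [← Finset.card_pos, hYcard]; norm_num
  obtain ⟨θ₀, hθ₀⟩ := hYne
  have hdvdd : d ∣ 4032 := by
    rw [← hYd θ₀ hθ₀, ← hG]; exact IsIrrCharacter.charDegree_dvd_card θ₀.2
  have hχne1 : Cfsg.charDegree (χ : G → ℂ) ≠ 1 := charDegree_ne_one hna hM7 χ hχ1 hχB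
  obtain ⟨ha, hd, rfl, rfl⟩ := arith_4032 _ d e1 e2 hdvdχ hdvdd he1 he2 hcong1 hcong2 hdegrel hχne1
  subst hd
  have hYcard3 : Y.card = 3 := by rw [hYcard]
  -- orthogonality: total multiplicity
  have hfil : Finset.univ.filter (· ∈ Cfsg.principalBlock M7 G) = insert (oneIrr G) (insert χ Y) := by
    ext ψ
    simp only [Finset.mem_filter, Finset.mem_univ, true_and, Finset.mem_insert]
    exact hB0 ψ
  have hOR := principal_sum_eq_zero P hP hM7
  rw [hfil, Finset.sum_insert (by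
    simp only [Finset.mem_insert, not_or]; exact ⟨fun h => hχ1 h.symm, h1Y⟩),
    Finset.sum_insert hχY, sum_exceptional (P : Subgroup G) Y 9 hYd, htau1, htauχ,
    charDegree_oneIrr, ha, hYcard3, show Nat.card (P : Subgroup G) = 7 from hP] at hOR
  -- the 2-block of χ
  have h1b : oneIrr G ∉ Cfsg.blockOf M2 (χ : G → ℂ) :=
    oneIrr_not_mem_blockOf hna hM2 χ hχ1 3 (by rw [ha]; norm_num)
  have hχb : χ ∈ Cfsg.blockOf M2 (χ : G → ℂ) := sameBlock_refl hM2 _
  have hBS := block_sum_dvd P hP hC hM7 hM2 (Cfsg.blockOf M2 (χ : G → ℂ)) ⟨χ, rfl⟩ 6 63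
    (by norm_num) (by rw [hG]; norm_num)
  have hfil2 : Finset.univ.filter (fun ψ : Cfsg.IrrCharacter G =>
      ψ ∈ Cfsg.blockOf M2 (χ : G → ℂ) ∧ ψ ∈ Cfsg.principalBlock M7 G)
      = insert χ (Y.filter (· ∈ Cfsg.blockOf M2 (χ : G → ℂ))) := by
    ext ψ
    simp only [Finset.mem_filter, Finset.mem_univ, true_and, Finset.mem_insert]
    rw [hB0 ψ]
    constructor
    · rintro ⟨hb, h | h | h⟩
      · exact absurd (h ▸ hb) h1b
      · left; exact h
      · right; exact ⟨h, hb⟩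
    · rintro (h | ⟨h, hb⟩)
      · rw [h]; exact ⟨hχb, Or.inr (Or.inl rfl)⟩
      · exact ⟨hb, Or.inr (Or.inr h)⟩
  have hsub : Y.filter (· ∈ Cfsg.blockOf M2 (χ : G → ℂ)) ⊆ Y := Finset.filter_subset _ _
  rw [hfil2, Finset.sum_insert (by
    intro h; exact hχY (hsub h)),
    sum_exceptional (P : Subgroup G) _ 9 (fun θ hθ => hYd θ (hsub hθ)), htauχ, ha,
    show Nat.card (P : Subgroup G) = 7 from hP] at hBS
  have hi : (Y.filter (· ∈ Cfsg.blockOf M2 (χ : G → ℂ))).card ≤ 3 := by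
    rw [← hYcard3]; exact Finset.card_le_card hsub
  have hS1 := sum_mOne_le (P : Subgroup G) hsub
  have hS0 := sum_mOne_nonneg (P : Subgroup G) (Y.filter (· ∈ Cfsg.blockOf M2 (χ : G → ℂ)))
  obtain ⟨c, hc⟩ := hBS
  push_cast at hOR hc
  obtain ⟨i, hidef⟩ : ∃ i : ℕ, i = (Y.filter (· ∈ Cfsg.blockOf M2 (χ : G → ℂ))).card := ⟨_, rfl⟩
  rw [← hidef] at hc hi
  interval_cases i <;> omega

end Cfsg.Agent.Lib.Helper5.BrauerSmall
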