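import Mathlib
import Cfsg.Agent.S0904
import Cfsg.Agent.Lib.Helper5.BrauerSmall.Tools
import Cfsg.Agent.Lib.Helper6.BlkVanish

/-!
# No simple group of order 5760 (Brauer's method)
-/

set_option autoImplicit false

namespace Cfsg.Agent.Lib.Helper5.BrauerSmall

open Cfsg Cfsg.Agent.Lib.Helper6
open scoped ComplexConjugate

/-- the arithmetic condition checked by brute force -/
def Good5760 (i j i' j' s : ℕ) : Prop :=
    (((2 ^ i * 3 ^ j : ℕ) : ℤ) - (if s < 2 then 1 else -1)) % 5 = 0 →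
    (((2 ^ i' * 3 ^ j' : ℕ) : ℤ) - (if s % 2 = 0 then 1 else -1) * 2) % 5 = 0 →
    (if s % 2 = 0 then (1 : ℤ) else -1) * ((2 ^ i' * 3 ^ j' : ℕ) : ℤ)
      = 1 + (if s < 2 then (1 : ℤ) else -1) * ((2 ^ i * 3 ^ j : ℕ) : ℤ) →
    2 ^ i * 3 ^ j ≠ 1 →
    (((2 ^ i * 3 ^ j = 4 ∧ 2 ^ i' * 3 ^ j' = 3) ∨ (2 ^ i * 3 ^ j = 9 ∧ 2 ^ i' * 3 ^ j' = 8)) ∧ s = 3)

instance decGood5760 (i j i' j' s : ℕ) : Decidable (Good5760 i j i' j' s) := by
  unfold Good5760; infer_instance

set_option maxRecDepth 100000 in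
theorem core_5760 : ∀ i < 8, ∀ j < 3, ∀ i' < 8, ∀ j' < 3, ∀ s < 4, Good5760 i j i' j' s := by
  decide

theorem arith_5760 (a d : ℕ) (e1 e2 : ℤ) (ha : a ∣ 5760) (hd : d ∣ 5760)
    (he1 : e1 = 1 ∨ e1 = -1) (he2 : e2 = 1 ∨ e2 = -1)
    (h1 : (a : ℤ) ≡ e1 [ZMOD (5 : ℕ)]) (h2 : (d : ℤ) ≡ e2 * 2 [ZMOD (5 : ℕ)])
    (hrel : e2 * (d : ℤ) = 1 + e1 * (a : ℤ)) (ha1 : a ≠ 1) :
    ((a = 4 ∧ d = 3) ∨ (a = 9 ∧ d = 8)) ∧ e1 = -1 ∧ e2 = -1 := by
  have h5a : ¬ 5 ∣ a := by
    rintro ⟨c, rfl⟩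
    unfold Int.ModEq at h1
    push_cast at h1
    rcases he1 with rfl | rfl <;> omega
  have h5d : ¬ 5 ∣ d := by
    rintro ⟨c, rfl⟩
    unfold Int.ModEq at h2
    push_cast at h2
    rcases he2 with rfl | rfl <;> omega
  have ha' : a ∣ 2 ^ 7 * 3 ^ 2 := by
    have : a ∣ 5 * (2 ^ 7 * 3 ^ 2) := by norm_num; exact ha
    exact (Nat.Coprime.dvd_mul_left
      ((Nat.Prime.coprime_iff_not_dvd (by norm_num)).2 h5a).symm).1 this
  have hd' : d ∣ 2 ^ 7 * 3 ^ 2 := by
    have : d ∣ 5 * (2 ^ 7 * 3 ^ 2) := by norm_num; exact hd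
    exact (Nat.Coprime.dvd_mul_left
      ((Nat.Prime.coprime_iff_not_dvd (by norm_num)).2 h5d).symm).1 this
  obtain ⟨i, hi, j, hj, rfl⟩ := exists_two_three_of_dvd ha'
  obtain ⟨i', hi', j', hj', rfl⟩ := exists_two_three_of_dvd hd'
  unfold Int.ModEq at h1 h2
  push_cast at h1 h2
  rcases he1 with rfl | rfl <;> rcases he2 with rfl | rfl
  · have := core_5760 i (by omega) j (by omega) i' (by omega) j' (by omega) 0 (by norm_num)
      (by norm_num; omega) (by norm_num; omega) (by simpa using hrel) ha1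
    exact absurd this.2 (by norm_num)
  · have := core_5760 i (by omega) j (by omega) i' (by omega) j' (by omega) 1 (by norm_num)
      (by norm_num; omega) (by norm_num; omega) (by simpa using hrel) ha1
    exact absurd this.2 (by norm_num)
  · have := core_5760 i (by omega) j (by omega) i' (by omega) j' (by omega) 2 (by norm_num)
      (by norm_num; omega) (by norm_num; omega) (by simpa using hrel) ha1
    exact absurd this.2 (by norm_num)
  · have := core_5760 i (by omega) j (by omega) i' (by omega) j' (by omega) 3 (by norm_num)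
      (by norm_num; omega) (by norm_num; omega) (by simpa using hrel) ha1
    exact ⟨this.1, rfl, rfl⟩

open scoped Classical in
/-- There is no simple group of order 5760. -/
theorem false_of_card_5760 {G : Type*} [Group G] [Finite G] [IsSimpleGroup G]
    (hG : Nat.card G = 5760) : False := by
  classical
  have : Fintype G := Fintype.ofFinite G
  have : Fintype (Cfsg.IrrCharacter G) := Fintype.ofFinite _
  have : Fact (Nat.Prime 5) := ⟨by norm_num⟩
  have : Fact (Nat.Prime 2) := ⟨Nat.prime_two⟩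
  have hna : ∃ a b : G, a * b ≠ b * a := exists_noncomm (by rw [hG]; norm_num)
  obtain P : Sylow 5 G := default
  have hP : Nat.card P = 5 :=
    Cfsg.Agent.Lib.Lead.SylowCount.card_sylow_of_card_eq 5 1152 (by rw [hG]) (by norm_num) P
  have hC : Subgroup.centralizer ((P : Subgroup G) : Set G) = (P : Subgroup G) :=
    Cfsg.Agent.S0904.result 2 3 5 7 2 Nat.prime_two Nat.prime_three (by norm_num) (by norm_num)
      (by norm_num) (by rw [hG]; norm_num) P
  obtain ⟨k, hk1, hk2, hrel, hcount, hmod⟩ := relIndex_data P hP hC (by rw [hG]; norm_num)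
  have hk : k = 2 := by
    have hk4 : k ≤ 4 := Nat.le_of_dvd (by norm_num) hk1
    rw [hG] at hcount
    unfold Nat.ModEq at hmod
    interval_cases k
    · simp at hk1
    · exact absurd rfl hk2
    · rfl
    · exfalso; norm_num at hk1
    · exfalso; omega
  subst hk
  obtain ⟨M5, hM5⟩ := exists_isPModular 5
  obtain ⟨M2, hM2⟩ := exists_isPModular 2
  obtain ⟨χ, Y, e1, e2, d, hχ1, h1Y, hχY, hYcard, hB0, he1, he2, hcong1, hYd, hcong2, hdegrel,
    htau1, htauχ⟩ := data_e2 (by norm_num) hM5 P hP hrel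
  have hχB : χ ∈ Cfsg.principalBlock M5 G := (hB0 χ).2 (Or.inr (Or.inl rfl))
  have hdvdχ : Cfsg.charDegree (χ : G → ℂ) ∣ 5760 := by
    rw [← hG]; exact IsIrrCharacter.charDegree_dvd_card χ.2
  have hYcard2 : Y.card = 2 := by rw [hYcard]
  have hYne : Y.Nonempty := by
    rw [← Finset.card_pos, hYcard2]; norm_num
  obtain ⟨θ₀, hθ₀⟩ := hYne
  have hdvdd : d ∣ 5760 := by
    rw [← hYd θ₀ hθ₀, ← hG]; exact IsIrrCharacter.charDegree_dvd_card θ₀.2
  have hχne1 : Cfsg.charDegree (χ : G → ℂ) ≠ 1 := charDegree_ne_one hna hM5 χ hχ1 hχB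
  obtain ⟨hcases, rfl, rfl⟩ :=
    arith_5760 _ d e1 e2 hdvdχ hdvdd he1 he2 hcong1 hcong2 hdegrel hχne1
  have hfil : Finset.univ.filter (· ∈ Cfsg.principalBlock M5 G)
      = insert (oneIrr G) (insert χ Y) := by
    ext ψ
    simp only [Finset.mem_filter, Finset.mem_univ, true_and, Finset.mem_insert]
    exact hB0 ψ
  have hOR := principal_sum_eq_zero P hP hM5
  rw [hfil, Finset.sum_insert (by
    simp only [Finset.mem_insert, not_or]; exact ⟨fun h => hχ1 h.symm, h1Y⟩),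
    Finset.sum_insert hχY, sum_exceptional (P : Subgroup G) Y d hYd, htau1, htauχ,
    charDegree_oneIrr, hYcard2, show Nat.card (P : Subgroup G) = 5 from hP] at hOR
  rcases hcases with ⟨ha, hd⟩ | ⟨ha, hd⟩
  · -- degrees (4, 3): the 2-block of χ
    subst hd
    rw [ha] at hOR
    have h1b : oneIrr G ∉ Cfsg.blockOf M2 (χ : G → ℂ) :=
      oneIrr_not_mem_blockOf hna hM2 χ hχ1 2 (by rw [ha]; norm_num)
    have hχb : χ ∈ Cfsg.blockOf M2 (χ : G → ℂ) := sameBlock_refl hM2 _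
    have hBS := block_sum_dvd P hP hC hM5 hM2 (Cfsg.blockOf M2 (χ : G → ℂ)) ⟨χ, rfl⟩ 7 45
      (by norm_num) (by rw [hG]; norm_num)
    have hfil2 : Finset.univ.filter (fun ψ : Cfsg.IrrCharacter G =>
        ψ ∈ Cfsg.blockOf M2 (χ : G → ℂ) ∧ ψ ∈ Cfsg.principalBlock M5 G)
        = insert χ (Y.filter (· ∈ Cfsg.blockOf M2 (χ : G → ℂ))) := by
      ext ψ
      simp only [Finset.mem_filter, Finset.mem_univ, true_and, Finset.mem_insert]
      rw [hB0 ψ]
      constructor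
      · rintro ⟨hb, h | h | h⟩
        · exact absurd (h ▸ hb) h1b
        · left; exact h
        · right; exact ⟨h, hb⟩
      · rintro (h | ⟨h, hb⟩)
        · rw [h]; exact ⟨hχb, Or.inr (Or.inl rfl)⟩
        · exact ⟨hb, Or.inr (Or.inr h)⟩
    have hsub : Y.filter (· ∈ Cfsg.blockOf M2 (χ : G → ℂ)) ⊆ Y := Finset.filter_subset _ _
    rw [hfil2, Finset.sum_insert (by
      intro h; exact hχY (hsub h)),
      sum_exceptional (P : Subgroup G) _ 3 (fun θ hθ => hYd θ (hsub hθ)), htauχ, ha,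
      show Nat.card (P : Subgroup G) = 5 from hP] at hBS
    have hi : (Y.filter (· ∈ Cfsg.blockOf M2 (χ : G → ℂ))).card ≤ 2 := by
      rw [← hYcard2]; exact Finset.card_le_card hsub
    have hS1 := sum_mOne_le (P : Subgroup G) hsub
    have hS0 := sum_mOne_nonneg (P : Subgroup G) (Y.filter (· ∈ Cfsg.blockOf M2 (χ : G → ℂ)))
    obtain ⟨c, hc⟩ := hBS
    push_cast at hOR hc
    obtain ⟨i, hidef⟩ : ∃ i : ℕ, i = (Y.filter (· ∈ Cfsg.blockOf M2 (χ : G → ℂ))).card :=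
      ⟨_, rfl⟩
    rw [← hidef] at hc hi
    interval_cases i <;> omega
  · -- degrees (9, 8): the 2-block of an exceptional character
    subst hd
    rw [ha] at hOR
    have hθ₀1 : θ₀ ≠ oneIrr G := fun h => h1Y (h ▸ hθ₀)
    have hθ₀χ : θ₀ ≠ χ := fun h => hχY (h ▸ hθ₀)
    have h1b : oneIrr G ∉ Cfsg.blockOf M2 (θ₀ : G → ℂ) :=
      oneIrr_not_mem_blockOf hna hM2 θ₀ hθ₀1 3 (by rw [hYd θ₀ hθ₀]; norm_num)
    have hθb : θ₀ ∈ Cfsg.blockOf M2 (θ₀ : G → ℂ) := sameBlock_refl hM2 _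
    have hBS := block_sum_dvd P hP hC hM5 hM2 (Cfsg.blockOf M2 (θ₀ : G → ℂ)) ⟨θ₀, rfl⟩ 7 45
      (by norm_num) (by rw [hG]; norm_num)
    have hsub : Y.filter (· ∈ Cfsg.blockOf M2 (θ₀ : G → ℂ)) ⊆ Y := Finset.filter_subset _ _
    have hθmem : θ₀ ∈ Y.filter (· ∈ Cfsg.blockOf M2 (θ₀ : G → ℂ)) := by
      rw [Finset.mem_filter]; exact ⟨hθ₀, hθb⟩
    have hipos : 0 < (Y.filter (· ∈ Cfsg.blockOf M2 (θ₀ : G → ℂ))).card :=
      Finset.card_pos.mpr ⟨θ₀, hθmem⟩
    have hi : (Y.filter (· ∈ Cfsg.blockOf M2 (θ₀ : G → ℂ))).card ≤ 2 := by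
      rw [← hYcard2]; exact Finset.card_le_card hsub
    have hS1 := sum_mOne_le (P : Subgroup G) hsub
    have hS0 := sum_mOne_nonneg (P : Subgroup G) (Y.filter (· ∈ Cfsg.blockOf M2 (θ₀ : G → ℂ)))
    have hfull : (Y.filter (· ∈ Cfsg.blockOf M2 (θ₀ : G → ℂ))).card = 2 →
        ∑ θ ∈ Y.filter (· ∈ Cfsg.blockOf M2 (θ₀ : G → ℂ)), (mOne (P : Subgroup G) θ : ℤ)
          = ∑ θ ∈ Y, (mOne (P : Subgroup G) θ : ℤ) := by
      intro h
      rw [Finset.eq_of_subset_of_card_le hsub (by rw [hYcard2, h])]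
    by_cases hχb : χ ∈ Cfsg.blockOf M2 (θ₀ : G → ℂ)
    · have hfil2 : Finset.univ.filter (fun ψ : Cfsg.IrrCharacter G =>
          ψ ∈ Cfsg.blockOf M2 (θ₀ : G → ℂ) ∧ ψ ∈ Cfsg.principalBlock M5 G)
          = insert χ (Y.filter (· ∈ Cfsg.blockOf M2 (θ₀ : G → ℂ))) := by
        ext ψ
        simp only [Finset.mem_filter, Finset.mem_univ, true_and, Finset.mem_insert]
        rw [hB0 ψ]
        constructor
        · rintro ⟨hb, h | h | h⟩
          · exact absurd (h ▸ hb) h1b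
          · left; exact h
          · right; exact ⟨h, hb⟩
        · rintro (h | ⟨h, hb⟩)
          · rw [h]; exact ⟨hχb, Or.inr (Or.inl rfl)⟩
          · exact ⟨hb, Or.inr (Or.inr h)⟩
      rw [hfil2, Finset.sum_insert (by
        intro h; exact hχY (hsub h)),
        sum_exceptional (P : Subgroup G) _ 8 (fun θ hθ => hYd θ (hsub hθ)), htauχ, ha,
        show Nat.card (P : Subgroup G) = 5 from hP] at hBS
      obtain ⟨c, hc⟩ := hBS
      push_cast at hOR hc
      omega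
    · have hfil2 : Finset.univ.filter (fun ψ : Cfsg.IrrCharacter G =>
          ψ ∈ Cfsg.blockOf M2 (θ₀ : G → ℂ) ∧ ψ ∈ Cfsg.principalBlock M5 G)
          = Y.filter (· ∈ Cfsg.blockOf M2 (θ₀ : G → ℂ)) := by
        ext ψ
        simp only [Finset.mem_filter, Finset.mem_univ, true_and]
        rw [hB0 ψ]
        constructor
        · rintro ⟨hb, h | h | h⟩
          · exact absurd (h ▸ hb) h1b
          · exact absurd (h ▸ hb) hχb
          · exact ⟨h, hb⟩
        · rintro ⟨h, hb⟩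
          exact ⟨hb, Or.inr (Or.inr h)⟩
      rw [hfil2, sum_exceptional (P : Subgroup G) _ 8 (fun θ hθ => hYd θ (hsub hθ)),
        show Nat.card (P : Subgroup G) = 5 from hP] at hBS
      obtain ⟨c, hc⟩ := hBS
      push_cast at hOR hc
      obtain ⟨i, hidef⟩ : ∃ i : ℕ, i = (Y.filter (· ∈ Cfsg.blockOf M2 (θ₀ : G → ℂ))).card :=
        ⟨_, rfl⟩
      rw [← hidef] at hc hi hipos hfull
      interval_cases i
      · omega
      · have := hfull rfl
        omega

end Cfsg.Agent.Lib.Helper5.BrauerSmall
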